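import Cfsg.Agent.Lib.Star.Corner

/-!
# Local symmetric algebras with small center

`B` is a finite dimensional algebra over an algebraically closed field `k`, `j` a primitive idempotent of
`B`, `lam` a linear form on `B` with `lam (x y) = lam (y x)`, nondegenerate on the corner `j B j`.

The main theorem: if the center of the corner has dimension at most `4`, then the corner is commutative.
-/

set_option autoImplicit false
set_option linter.unusedSectionVars false
set_option linter.style.haveILetI false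

namespace Cfsg.Agent.Lib.Star.LocalSym

open Cfsg.Agent.Lib.Star

universe u v

variable {k : Type u} {B : Type v} [Field k] [Ring B] [Algebra k B]

/-- The corner, as a subspace. -/
def Cor (k : Type u) {B : Type v} [Field k] [Ring B] [Algebra k B] (j : B) : Submodule k B where
  carrier := {x | j * x = x ∧ x * j = x}
  add_mem' := by
    rintro a b ⟨h1, h2⟩ ⟨h3, h4⟩
    exact ⟨by rw [mul_add, h1, h3], by rw [add_mul, h2, h4]⟩
  zero_mem' := ⟨mul_zero _, zero_mul _⟩
  smul_mem' := by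
    rintro c a ⟨h1, h2⟩
    exact ⟨by rw [mul_smul_comm, h1], by rw [smul_mul_assoc, h2]⟩

variable {j : B}

theorem mem_Cor {x : B} : x ∈ Cor k j ↔ j * x = x ∧ x * j = x := Iff.rfl

theorem Cor_mul {x y : B} (hx : x ∈ Cor k j) (hy : y ∈ Cor k j) : x * y ∈ Cor k j :=
  ⟨by rw [← mul_assoc, hx.1], by rw [mul_assoc, hy.2]⟩

theorem inCorner_top {x : B} (hx : x ∈ Cor k j) : InCorner (⊤ : Subalgebra k B) j x :=
  ⟨Algebra.mem_top, hx.1, hx.2⟩

section Prim

variable [IsAlgClosed k] [FiniteDimensional k B] (hj : IsPrimIn (⊤ : Subalgebra k B) j)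

include hj

theorem j_mem_Cor : j ∈ Cor k j := ⟨hj.idem, hj.idem⟩

/-- The radical of the corner. -/
noncomputable def Rad (k : Type u) {B : Type v} [Field k] [Ring B] [Algebra k B] [IsAlgClosed k]
    [FiniteDimensional k B] {j : B} (hj : IsPrimIn (⊤ : Subalgebra k B) j) : Submodule k B where
  carrier := {x | x ∈ Cor k j ∧ kap k j x = 0}
  add_mem' := by
    rintro a b ⟨h1, h2⟩ ⟨h3, h4⟩
    exact ⟨(Cor k j).add_mem h1 h3, by
      rw [hj.kap_add (inCorner_top h1) (inCorner_top h3), h2, h4, add_zero]⟩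
  zero_mem' := ⟨(Cor k j).zero_mem, hj.kap_zero⟩
  smul_mem' := by
    rintro c a ⟨h1, h2⟩
    exact ⟨(Cor k j).smul_mem c h1, by rw [hj.kap_smul (inCorner_top h1), h2, mul_zero]⟩

theorem mem_Rad {x : B} : x ∈ Rad k hj ↔ x ∈ Cor k j ∧ kap k j x = 0 := Iff.rfl

theorem Rad_le_Cor : Rad k hj ≤ Cor k j := fun _ h => h.1

theorem Rad_nil {x : B} (hx : x ∈ Rad k hj) : IsNilpotent x :=
  (hj.kap_eq_zero_iff (inCorner_top hx.1)).mp hx.2

theorem Rad_mul_left {c x : B} (hc : c ∈ Cor k j) (hx : x ∈ Rad k hj) : c * x ∈ Rad k hj :=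
  ⟨Cor_mul hc hx.1, by rw [hj.kap_mul (inCorner_top hc) (inCorner_top hx.1), hx.2, mul_zero]⟩

theorem Rad_mul_right {c x : B} (hc : c ∈ Cor k j) (hx : x ∈ Rad k hj) : x * c ∈ Rad k hj :=
  ⟨Cor_mul hx.1 hc, by rw [hj.kap_mul (inCorner_top hx.1) (inCorner_top hc), hx.2, zero_mul]⟩

theorem sub_mem_Rad {c : B} (hc : c ∈ Cor k j) : c - kap k j c • j ∈ Rad k hj := by
  refine ⟨(Cor k j).sub_mem hc ((Cor k j).smul_mem _ (j_mem_Cor hj)), ?_⟩
  rw [hj.kap_sub (inCorner_top hc) (inCorner_top ((Cor k j).smul_mem _ (j_mem_Cor hj))),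
    hj.kap_smul (inCorner_top (j_mem_Cor hj)), hj.kap_self, mul_one, sub_self]

theorem j_notMem_Rad : j ∉ Rad k hj := fun h => by
  have := h.2
  rw [hj.kap_self] at this
  exact one_ne_zero this

/-! ### Powers of the radical -/

theorem pow_succ_le_Rad (m : ℕ) : (Rad k hj) ^ (m + 1) ≤ Rad k hj := by
  induction m with
  | zero => simp
  | succ m ih =>
    rw [pow_succ]
    refine Submodule.mul_le.mpr fun a ha b hb => ?_
    exact Rad_mul_left hj ((Rad_le_Cor hj) (ih ha)) hb

theorem cor_mul_mem_pow {c y : B} (hc : c ∈ Cor k j) (m : ℕ) (hy : y ∈ (Rad k hj) ^ (m + 1)) :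
    c * y ∈ (Rad k hj) ^ (m + 1) := by
  induction m generalizing y with
  | zero =>
    rw [pow_one] at hy ⊢
    exact Rad_mul_left hj hc hy
  | succ m ih =>
    rw [pow_succ'] at hy ⊢
    induction hy using Submodule.mul_induction_on' with
    | mem_mul_mem a ha b hb =>
      rw [← mul_assoc]
      exact Submodule.mul_mem_mul (Rad_mul_left hj hc ha) hb
    | add a _ b _ h1 h2 =>
      rw [mul_add]
      exact Submodule.add_mem _ h1 h2

theorem mul_cor_mem_pow {c y : B} (hc : c ∈ Cor k j) (m : ℕ) (hy : y ∈ (Rad k hj) ^ (m + 1)) :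
    y * c ∈ (Rad k hj) ^ (m + 1) := by
  induction m generalizing y with
  | zero =>
    rw [pow_one] at hy ⊢
    exact Rad_mul_right hj hc hy
  | succ m ih =>
    rw [pow_succ] at hy ⊢
    induction hy using Submodule.mul_induction_on' with
    | mem_mul_mem a ha b hb =>
      rw [mul_assoc]
      exact Submodule.mul_mem_mul ha (Rad_mul_right hj hc hb)
    | add a _ b _ h1 h2 =>
      rw [add_mul]
      exact Submodule.add_mem _ h1 h2

theorem pow_anti (m : ℕ) : (Rad k hj) ^ (m + 2) ≤ (Rad k hj) ^ (m + 1) := by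
  rw [pow_succ]
  refine Submodule.mul_le.mpr fun a ha b hb => ?_
  exact mul_cor_mem_pow hj ((Rad_le_Cor hj) hb) m ha

theorem pow_anti' {m n : ℕ} (h : m ≤ n) : (Rad k hj) ^ (n + 1) ≤ (Rad k hj) ^ (m + 1) := by
  induction n, h using Nat.le_induction with
  | base => exact le_rfl
  | succ n _ ih => exact (pow_anti hj n).trans ih

/-- A left ideal argument: an idempotent nil left ideal vanishes. -/
theorem eq_bot_of_idem (N : Submodule k B) (hN : N ≤ Rad k hj)
    (hleft : ∀ c ∈ Cor k j, ∀ y ∈ N, c * y ∈ N) (hNN : N * N = N) : N = ⊥ := by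
  have key : ∀ (d : ℕ) (L : Submodule k B), Module.finrank k L ≤ d → L ≤ Cor k j →
      (∀ c ∈ Cor k j, ∀ a ∈ L, c * a ∈ L) → ∀ x ∈ N, ∀ a ∈ L, x * a = 0 := by
    intro d
    induction d with
    | zero =>
      intro L hL _ _ x _ a ha
      have : L = ⊥ := by
        apply Submodule.finrank_eq_zero.mp
        omega
      rw [this, Submodule.mem_bot] at ha
      rw [ha, mul_zero]
    | succ d ih =>
      intro L hL hLC hLl x hx a ha
      by_contra hne
      let L' : Submodule k B := N.map (LinearMap.mulRight k a)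
      have hmem : ∀ y ∈ N, y * a ∈ L' := fun y hy => ⟨y, hy, rfl⟩
      have hL'l : ∀ c ∈ Cor k j, ∀ b ∈ L', c * b ∈ L' := by
        rintro c hc _ ⟨y, hy, rfl⟩
        simp only [LinearMap.mulRight_apply]
        rw [← mul_assoc]
        exact hmem _ (hleft c hc y hy)
      have hL'L : L' ≤ L := by
        rintro _ ⟨y, hy, rfl⟩
        exact hLl y ((Rad_le_Cor hj) (hN hy)) a ha
      by_cases hEq : L' = L
      · have h1 : a ∈ L' := by rw [hEq]; exact ha
        obtain ⟨y, hy, hya⟩ := h1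
        simp only [LinearMap.mulRight_apply] at hya
        obtain ⟨m, hm⟩ := Rad_nil hj (hN hy)
        have h2 : ∀ n : ℕ, y ^ n * a = a := by
          intro n
          induction n with
          | zero => simp
          | succ n ih' => rw [pow_succ, mul_assoc, hya, ih']
        have h3 := h2 m
        rw [hm, zero_mul] at h3
        apply hne
        rw [← h3, mul_zero]
      · have hlt : L' < L := lt_of_le_of_ne hL'L hEq
        have hrk : Module.finrank k L' < Module.finrank k L := Submodule.finrank_lt_finrank_of_lt hlt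
        have h1 := ih L' (by omega) (hL'L.trans hLC) hL'l
        -- `N N = N` gives a contradiction
        have hx' : x ∈ N * N := by rw [hNN]; exact hx
        have h2 : ∀ z ∈ N * N, z * a = 0 := by
          intro z hz
          induction hz using Submodule.mul_induction_on' with
          | mem_mul_mem u hu v hv =>
            rw [mul_assoc]
            exact h1 u hu _ (hmem v hv)
          | add u _ v _ h3 h4 =>
            rw [add_mul, h3, h4, add_zero]
        exact hne (h2 x hx')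
  rw [eq_bot_iff]
  intro y hy
  have h1 := key _ (Cor k j) le_rfl le_rfl (fun c hc a ha => Cor_mul hc ha) y hy j (j_mem_Cor hj)
  rw [((Rad_le_Cor hj) (hN hy)).2] at h1
  exact h1

/-- The radical is nilpotent. -/
theorem exists_pow_eq_bot : ∃ m : ℕ, (Rad k hj) ^ (m + 1) = ⊥ := by
  let f : ℕ →o (Submodule k B)ᵒᵈ :=
    ⟨fun m => OrderDual.toDual ((Rad k hj) ^ (m + 1)), fun a b h => pow_anti' hj h⟩
  obtain ⟨n, hn⟩ := IsArtinian.monotone_stabilizes f
  refine ⟨n, ?_⟩
  have hstable : ∀ m, n ≤ m → (Rad k hj) ^ (m + 1) = (Rad k hj) ^ (n + 1) := fun m hm => (hn m hm).symm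
  refine eq_bot_of_idem hj _ (pow_succ_le_Rad hj n) (fun c hc y hy => cor_mul_mem_pow hj hc n hy) ?_
  rw [← pow_add, show n + 1 + (n + 1) = (2 * n + 1) + 1 by ring, hstable _ (by omega)]

theorem pow_ne_of_ne_bot {m : ℕ} (h : (Rad k hj) ^ (m + 1) ≠ ⊥) :
    (Rad k hj) ^ (m + 1) ≠ (Rad k hj) ^ (m + 2) := by
  intro heq
  apply h
  have hstable : ∀ n, (Rad k hj) ^ (m + n + 1) = (Rad k hj) ^ (m + 1) := by
    intro n
    induction n with
    | zero => rfl
    | succ n ih =>
      rw [show m + (n + 1) + 1 = (m + n + 1) + 1 by ring, pow_succ, ih, ← pow_succ]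
      exact heq.symm
  obtain ⟨M, hM⟩ := exists_pow_eq_bot hj
  rw [← hstable M, show m + M + 1 = m + (M + 1) by ring, pow_add, hM]
  simp

/-- Elements of the radical commute if the radical is generated by one element. -/
theorem comm_of_gen {x : B} (hx : x ∈ Rad k hj)
    (hgen : Rad k hj ≤ (Rad k hj) ^ 2 ⊔ Submodule.span k {x}) :
    ∀ a ∈ Rad k hj, ∀ b ∈ Rad k hj, a * b = b * a := by
  set J := Rad k hj with hJ
  have hgen' : ∀ a ∈ J, ∃ w ∈ J ^ 2, ∃ α : k, a = w + α • x := by
    intro a ha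
    obtain ⟨w, hw, v, hv, rfl⟩ := Submodule.mem_sup.mp (hgen ha)
    obtain ⟨α, rfl⟩ := Submodule.mem_span_singleton.mp hv
    exact ⟨w, hw, α, rfl⟩
  have hpowmem : ∀ m : ℕ, x ^ (m + 1) ∈ J ^ (m + 1) := fun m => Submodule.pow_mem_pow _ hx _
  have hstep : ∀ m : ℕ, J ^ (m + 1) ≤ Submodule.span k {x ^ (m + 1)} ⊔ J ^ (m + 2) := by
    intro m
    induction m with
    | zero =>
      intro a ha
      rw [pow_one] at ha
      obtain ⟨w, hw, α, rfl⟩ := hgen' a ha
      refine Submodule.add_mem _ (Submodule.mem_sup_right hw) (Submodule.mem_sup_left ?_)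
      rw [zero_add, pow_one]
      exact Submodule.smul_mem _ _ (Submodule.mem_span_singleton_self x)
    | succ m ih =>
      rw [show m + 1 + 1 = 1 + (m + 1) by ring, pow_add, pow_one]
      refine Submodule.mul_le.mpr fun a ha b hb => ?_
      obtain ⟨w, hw, α, rfl⟩ := hgen' a ha
      obtain ⟨u, hu, z, hz, rfl⟩ := Submodule.mem_sup.mp (ih hb)
      obtain ⟨β, rfl⟩ := Submodule.mem_span_singleton.mp hu
      have h1 : (w + α • x) * (β • x ^ (m + 1) + z) = (α * β) • x ^ (1 + (m + 1)) +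
          (β • (w * x ^ (m + 1)) + w * z + α • (x * z)) := by
        rw [add_mul, mul_add, mul_add, smul_mul_assoc, mul_smul_comm, mul_smul_comm, smul_mul_assoc,
          smul_smul, add_comm 1, pow_succ' x (m + 1)]
        abel
      rw [h1]
      refine Submodule.add_mem _ (Submodule.mem_sup_left ?_) (Submodule.mem_sup_right ?_)
      · exact Submodule.smul_mem _ _ (Submodule.mem_span_singleton_self _)
      · have h2 : w * x ^ (m + 1) ∈ J ^ (m + 1 + 2) := by
          rw [show m + 1 + 2 = 2 + (m + 1) by ring, pow_add]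
          exact Submodule.mul_mem_mul hw (hpowmem m)
        have h3 : w * z ∈ J ^ (m + 1 + 2) := by
          have : w * z ∈ J ^ (2 + (m + 2)) := by
            rw [pow_add]
            exact Submodule.mul_mem_mul hw hz
          exact pow_anti' hj (m := m + 2) (n := m + 3) (by omega)
            (by rwa [show m + 3 + 1 = 2 + (m + 2) by ring])
        have h4 : x * z ∈ J ^ (m + 1 + 2) := by
          rw [show m + 1 + 2 = 1 + (m + 2) by ring, pow_add, pow_one]
          exact Submodule.mul_mem_mul hx hz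
        exact Submodule.add_mem _ (Submodule.add_mem _ (Submodule.smul_mem _ _ h2) h3)
          (Submodule.smul_mem _ _ h4)
  let T : Submodule k B := Submodule.span k (Set.range fun i : ℕ => x ^ (i + 1))
  have hT : ∀ m : ℕ, J ≤ T ⊔ J ^ (m + 1) := by
    intro m
    induction m with
    | zero => rw [zero_add, pow_one]; exact le_sup_right
    | succ m ih =>
      refine ih.trans (sup_le le_sup_left ((hstep m).trans (sup_le ?_ le_sup_right)))
      refine le_sup_of_le_left (Submodule.span_le.mpr ?_)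
      rintro _ rfl
      exact Submodule.subset_span ⟨m, rfl⟩
  obtain ⟨M, hM⟩ := exists_pow_eq_bot hj
  have hJT : J ≤ T := by
    have := hT M
    rwa [hM, sup_bot_eq] at this
  have hcomm1 : ∀ i : ℕ, ∀ b ∈ T, x ^ (i + 1) * b = b * x ^ (i + 1) := by
    intro i b hb
    induction hb using Submodule.span_induction with
    | mem b hb =>
      obtain ⟨l, rfl⟩ := hb
      exact ((Commute.refl x).pow_pow _ _).eq
    | zero => simp
    | add a b _ _ h1 h2 => rw [mul_add, add_mul, h1, h2]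
    | smul c a _ h => rw [mul_smul_comm, smul_mul_assoc, h]
  have hcomm2 : ∀ a ∈ T, ∀ b ∈ T, a * b = b * a := by
    intro a ha b hb
    induction ha using Submodule.span_induction with
    | mem a ha =>
      obtain ⟨l, rfl⟩ := ha
      exact hcomm1 l b hb
    | zero => simp
    | add a c _ _ h1 h2 => rw [add_mul, mul_add, h1, h2]
    | smul c a _ h => rw [smul_mul_assoc, mul_smul_comm, h]
  exact fun a ha b hb => hcomm2 a (hJT ha) b (hJT hb)

/-- The commutator in the corner, through the radical parts. -/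
theorem comm_eq (c d : B) (hc : c ∈ Cor k j) (hd : d ∈ Cor k j) :
    c * d - d * c = (c - kap k j c • j) * (d - kap k j d • j) -
      (d - kap k j d • j) * (c - kap k j c • j) := by
  simp only [sub_mul, mul_sub, smul_mul_assoc, mul_smul_comm, hc.2, hd.1, hj.idem, hc.1, hd.2]
  module

/-- Commutativity of the radical gives commutativity of the corner. -/
theorem comm_reduce (h : ∀ a ∈ Rad k hj, ∀ b ∈ Rad k hj, a * b = b * a) :
    ∀ c ∈ Cor k j, ∀ d ∈ Cor k j, c * d = d * c := by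
  intro c hc d hd
  have h1 := h _ (sub_mem_Rad hj hc) _ (sub_mem_Rad hj hd)
  have h2 := comm_eq hj c d hc hd
  rw [h1, sub_self] at h2
  exact sub_eq_zero.mp h2

end Prim

/-! ### The form -/

section Form

variable [IsAlgClosed k] [FiniteDimensional k B] (hj : IsPrimIn (⊤ : Subalgebra k B) j)
  (lam : B →ₗ[k] k) (hsym : ∀ x y, lam (x * y) = lam (y * x))
  (hnd : ∀ y ∈ Cor k j, (∀ x ∈ Cor k j, lam (y * x) = 0) → y = 0)

/-- The center of the corner. -/
def ZCor (k : Type u) {B : Type v} [Field k] [Ring B] [Algebra k B] (j : B) : Submodule k B where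
  carrier := {z | z ∈ Cor k j ∧ ∀ c ∈ Cor k j, c * z = z * c}
  add_mem' := by
    rintro a b ⟨h1, h2⟩ ⟨h3, h4⟩
    exact ⟨(Cor k j).add_mem h1 h3, fun c hc => by rw [mul_add, add_mul, h2 c hc, h4 c hc]⟩
  zero_mem' := ⟨(Cor k j).zero_mem, fun c _ => by simp⟩
  smul_mem' := by
    rintro α a ⟨h1, h2⟩
    exact ⟨(Cor k j).smul_mem α h1, fun c hc => by rw [mul_smul_comm, smul_mul_assoc, h2 c hc]⟩

/-- The orthogonal inside the corner. -/
def perp (lam : B →ₗ[k] k) (j : B) (U : Submodule k B) : Submodule k B where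
  carrier := {y | y ∈ Cor k j ∧ ∀ w ∈ U, lam (y * w) = 0}
  add_mem' := by
    rintro a b ⟨h1, h2⟩ ⟨h3, h4⟩
    exact ⟨(Cor k j).add_mem h1 h3, fun w hw => by rw [add_mul, map_add, h2 w hw, h4 w hw, add_zero]⟩
  zero_mem' := ⟨(Cor k j).zero_mem, fun w _ => by simp⟩
  smul_mem' := by
    rintro α a ⟨h1, h2⟩
    exact ⟨(Cor k j).smul_mem α h1, fun w hw => by rw [smul_mul_assoc, map_smul, h2 w hw, smul_zero]⟩

omit [IsAlgClosed k] in
theorem finrank_Cor_le (U : Submodule k B) :
    Module.finrank k (Cor k j) ≤ Module.finrank k (perp lam j U) + Module.finrank k U := by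
  let φ : B →ₗ[k] B →ₗ[k] k := (LinearMap.mul k B).compr₂ lam
  let f : ↥(Cor k j) →ₗ[k] Module.Dual k ↥U :=
    ((LinearMap.lcomp k k U.subtype).comp φ).comp (Cor k j).subtype
  have hf : ∀ (y : ↥(Cor k j)) (w : ↥U), f y w = lam ((y : B) * w) := fun _ _ => rfl
  have h1 := LinearMap.finrank_range_add_finrank_ker f
  have h2 : Module.finrank k (LinearMap.range f) ≤ Module.finrank k ↥U := by
    rw [← Subspace.dual_finrank_eq]
    exact Submodule.finrank_le _
  have h3 : Module.finrank k (LinearMap.ker f) ≤ Module.finrank k (perp lam j U) := by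
    let g : ↥(LinearMap.ker f) →ₗ[k] ↥(perp lam j U) :=
      { toFun := fun y => ⟨((y : ↥(Cor k j)) : B), (y : ↥(Cor k j)).2, fun w hw => by
          have h0 : f (y : ↥(Cor k j)) = 0 := LinearMap.mem_ker.mp y.2
          have := congrArg (fun l : Module.Dual k ↥U => l ⟨w, hw⟩) h0
          exact this⟩
        map_add' := fun _ _ => rfl
        map_smul' := fun _ _ => rfl }
    refine LinearMap.finrank_le_finrank_of_injective (f := g) ?_
    intro a b hab
    have : ((a : ↥(Cor k j)) : B) = ((b : ↥(Cor k j)) : B) :=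
      congrArg (fun z : ↥(perp lam j U) => (z : B)) hab
    exact Subtype.ext (Subtype.ext this)
  omega

include hsym hnd in
/-- If `U` contains the commutators of the radical, its orthogonal is central. -/
theorem perp_le_ZCor (U : Submodule k B)
    (hU : ∀ a ∈ Rad k hj, ∀ b ∈ Rad k hj, a * b - b * a ∈ U) : perp lam j U ≤ ZCor k j := by
  rintro y ⟨hy, hyU⟩
  refine ⟨hy, fun c hc => ?_⟩
  have h0 : y * c - c * y = 0 := by
    refine hnd _ ((Cor k j).sub_mem (Cor_mul hy hc) (Cor_mul hc hy)) fun d hd => ?_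
    have h1 : lam ((y * c - c * y) * d) = lam (y * (c * d - d * c)) := by
      rw [sub_mul, map_sub, mul_sub, map_sub, mul_assoc y c d, mul_assoc c y d,
        hsym c (y * d), mul_assoc y d c]
    rw [h1, comm_eq hj c d hc hd]
    exact hyU _ (hU _ (sub_mem_Rad hj hc) _ (sub_mem_Rad hj hd))
  exact (sub_eq_zero.mp h0).symm

include hsym hnd in
/-- If the cube of the radical vanishes, the radical is commutative. -/
theorem comm_of_pow_three (h3 : (Rad k hj) ^ 3 = ⊥) : ∀ a ∈ Rad k hj, ∀ b ∈ Rad k hj, a * b = b * a := by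
  intro a ha b hb
  have hzero : ∀ u ∈ Rad k hj, ∀ v ∈ Rad k hj, ∀ w ∈ Rad k hj, u * v * w = 0 := by
    intro u hu v hv w hw
    have : u * v * w ∈ (Rad k hj) ^ 3 := by
      rw [show 3 = 1 + 1 + 1 by rfl, pow_succ, pow_succ, pow_one]
      exact Submodule.mul_mem_mul (Submodule.mul_mem_mul hu hv) hw
    rw [h3] at this
    exact this
  have h0 : a * b - b * a = 0 := by
    refine hnd _ ((Cor k j).sub_mem (Cor_mul ha.1 hb.1) (Cor_mul hb.1 ha.1)) fun d hd => ?_
    have hdr := sub_mem_Rad hj hd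
    have h1 : (a * b - b * a) * d = kap k j d • (a * b - b * a) := by
      calc (a * b - b * a) * d = (a * b - b * a) * ((d - kap k j d • j) + kap k j d • j) := by
            rw [sub_add_cancel]
        _ = kap k j d • (a * b - b * a) := by
            rw [mul_add, sub_mul, hzero a ha b hb _ hdr, hzero b hb a ha _ hdr, sub_zero, zero_add, sub_mul,
              mul_smul_comm, mul_smul_comm, mul_assoc, mul_assoc, hb.1.2, ha.1.2, smul_sub]
    rw [h1, map_smul, map_sub, hsym a b, sub_self, smul_zero]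
  exact sub_eq_zero.mp h0

include hj hsym hnd in
/-- **A local symmetric algebra whose center has dimension at most `4` is commutative.** -/
theorem corner_comm (hZ : Module.finrank k (ZCor k j) ≤ 4) :
    ∀ c ∈ Cor k j, ∀ d ∈ Cor k j, c * d = d * c := by
  apply comm_reduce hj
  set J := Rad k hj with hJ
  by_cases h3 : J ^ 3 = ⊥
  · exact comm_of_pow_three hj lam hsym hnd h3
  -- an element of the cube with nonzero value
  obtain ⟨w, hw3, hlw⟩ : ∃ w ∈ J ^ 3, lam w ≠ 0 := by
    obtain ⟨w₀, hw₀, hw₀0⟩ := Submodule.exists_mem_ne_zero_of_ne_bot h3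
    have hC : w₀ ∈ Cor k j := (Rad_le_Cor hj) (pow_succ_le_Rad hj 2 hw₀)
    by_contra hcon
    push Not at hcon
    exact hw₀0 (hnd w₀ hC fun x hx => hcon _ (mul_cor_mem_pow hj hx 2 hw₀))
  have h32 : J ^ 3 ≤ J ^ 2 := pow_anti hj 1
  have h21 : J ^ 2 ≤ J := pow_succ_le_Rad hj 1
  have hjZ : j ∈ ZCor k j := ⟨j_mem_Cor hj, fun c hc => by rw [hc.1, hc.2]⟩
  have hjC := j_mem_Cor hj
  -- the comutators
  have hU2 : ∀ a ∈ J, ∀ b ∈ J, a * b - b * a ∈ J ^ 2 := by
    intro a ha b hb
    rw [pow_two]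
    exact Submodule.sub_mem _ (Submodule.mul_mem_mul ha hb) (Submodule.mul_mem_mul hb ha)
  -- first bound
  have hb1 : Module.finrank k (perp lam j (J ^ 2)) + 1 ≤ Module.finrank k (ZCor k j) := by
    have hle := perp_le_ZCor hj lam hsym hnd (J ^ 2) hU2
    have hne : perp lam j (J ^ 2) ≠ ZCor k j := by
      intro h
      have h1 : j ∈ perp lam j (J ^ 2) := by rw [h]; exact hjZ
      have h2 := h1.2 w (h32 hw3)
      rw [((Rad_le_Cor hj) (pow_succ_le_Rad hj 2 hw3)).1] at h2
      exact hlw h2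
    exact Submodule.finrank_lt_finrank_of_lt (lt_of_le_of_ne hle hne)
  have hb2 : Module.finrank k J + 1 ≤ Module.finrank k (Cor k j) := by
    have hne : J ≠ Cor k j := fun h => j_notMem_Rad hj (by rw [← hJ, h]; exact hjC)
    exact Submodule.finrank_lt_finrank_of_lt (lt_of_le_of_ne (Rad_le_Cor hj) hne)
  have hb3 := finrank_Cor_le lam (j := j) (J ^ 2)
  have hb4 : Module.finrank k J ≤ Module.finrank k ↥(J ^ 2) + 2 := by omega
  -- generators
  by_cases hone : ∃ x ∈ J, J ≤ J ^ 2 ⊔ Submodule.span k {x}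
  · obtain ⟨x, hx, hgen⟩ := hone
    exact comm_of_gen hj hx hgen
  exfalso
  push Not at hone
  obtain ⟨x, hxJ, hxW⟩ : ∃ x ∈ J, x ∉ J ^ 2 := by
    obtain ⟨x, hx, hx'⟩ := SetLike.not_le_iff_exists.mp (hone 0 (Submodule.zero_mem _))
    exact ⟨x, hx, fun h => hx' (Submodule.mem_sup_left h)⟩
  obtain ⟨y, hyJ, hyW⟩ := SetLike.not_le_iff_exists.mp (hone x hxJ)
  set W1 : Submodule k B := J ^ 2 ⊔ Submodule.span k {x} with hW1
  set W2 : Submodule k B := W1 ⊔ Submodule.span k {y} with hW2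
  have hW1le : Module.finrank k ↥(J ^ 2) + 1 ≤ Module.finrank k W1 := by
    refine Submodule.finrank_lt_finrank_of_lt (lt_of_le_of_ne le_sup_left fun h => hxW ?_)
    rw [h]
    exact Submodule.mem_sup_right (Submodule.mem_span_singleton_self x)
  have hW2le : Module.finrank k W1 + 1 ≤ Module.finrank k W2 := by
    refine Submodule.finrank_lt_finrank_of_lt (lt_of_le_of_ne le_sup_left fun h => hyW ?_)
    rw [h]
    exact Submodule.mem_sup_right (Submodule.mem_span_singleton_self y)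
  have hW2J : W2 ≤ J := sup_le (sup_le h21 ((Submodule.span_singleton_le_iff_mem _ _).mpr hxJ))
    ((Submodule.span_singleton_le_iff_mem _ _).mpr hyJ)
  have hW2rk := Submodule.finrank_mono hW2J
  have hW2eq : W2 = J := Submodule.eq_of_le_of_finrank_le hW2J (by omega)
  have hgen : ∀ a ∈ J, ∃ u ∈ J ^ 2, ∃ α β : k, a = u + α • x + β • y := by
    intro a ha
    rw [← hW2eq] at ha
    obtain ⟨a₁, ha₁, v, hv, rfl⟩ := Submodule.mem_sup.mp ha
    obtain ⟨u, hu, v', hv', rfl⟩ := Submodule.mem_sup.mp ha₁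
    obtain ⟨α, rfl⟩ := Submodule.mem_span_singleton.mp hv'
    obtain ⟨β, rfl⟩ := Submodule.mem_span_singleton.mp hv
    exact ⟨u, hu, α, β, rfl⟩
  -- the commutators
  set t : B := x * y - y * x with ht
  let Com : Submodule k B := Submodule.span k {z | ∃ a ∈ J, ∃ b ∈ J, z = a * b - b * a}
  have hU3 : ∀ a ∈ J, ∀ b ∈ J, a * b - b * a ∈ Com := fun a ha b hb =>
    Submodule.subset_span ⟨a, ha, b, hb, rfl⟩
  have hb5 := finrank_Cor_le lam (j := j) Com
  have hb6 := Submodule.finrank_mono (perp_le_ZCor hj lam hsym hnd Com hU3)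
  have hb7 : Module.finrank k ↥(J ^ 2) ≤ Module.finrank k Com + 1 := by omega
  have hCom2 : Com ≤ J ^ 2 := Submodule.span_le.mpr (by
    rintro _ ⟨a, ha, b, hb, rfl⟩
    exact hU2 a ha b hb)
  have hComlam : ∀ z ∈ Com, lam z = 0 := by
    intro z hz
    induction hz using Submodule.span_induction with
    | mem z hz =>
      obtain ⟨a, -, b, -, rfl⟩ := hz
      rw [map_sub, hsym a b, sub_self]
    | zero => exact map_zero _
    | add a b _ _ h1 h2 => rw [map_add, h1, h2, add_zero]
    | smul c a _ h => rw [map_smul, h, smul_zero]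
  have hCw : J ^ 2 = Com ⊔ Submodule.span k {w} := by
    have hle : Com ⊔ Submodule.span k {w} ≤ J ^ 2 :=
      sup_le hCom2 ((Submodule.span_singleton_le_iff_mem _ _).mpr (h32 hw3))
    have hlt : Module.finrank k Com + 1 ≤ Module.finrank k ↥(Com ⊔ Submodule.span k {w}) := by
      refine Submodule.finrank_lt_finrank_of_lt (lt_of_le_of_ne le_sup_left fun h => hlw ?_)
      apply hComlam
      rw [h]
      exact Submodule.mem_sup_right (Submodule.mem_span_singleton_self w)
    exact (Submodule.eq_of_le_of_finrank_le hle (by omega)).symm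
  have hmem3l : ∀ a ∈ J, ∀ u ∈ J ^ 2, a * u ∈ J ^ 3 := by
    intro a ha u hu
    rw [show 3 = 1 + 2 by rfl, pow_add, pow_one]
    exact Submodule.mul_mem_mul ha hu
  have hmem3r : ∀ u ∈ J ^ 2, ∀ a ∈ J, u * a ∈ J ^ 3 := by
    intro u hu a ha
    rw [show 3 = 2 + 1 by rfl, pow_add, pow_one]
    exact Submodule.mul_mem_mul hu ha
  have hComt : Com ≤ Submodule.span k {t} ⊔ J ^ 3 := by
    refine Submodule.span_le.mpr ?_
    rintro _ ⟨a, ha, b, hb, rfl⟩
    obtain ⟨u, hu, α, β, rfl⟩ := hgen a ha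
    obtain ⟨v, hv, γ, δ, rfl⟩ := hgen b hb
    have hx' : α • x + β • y ∈ J := J.add_mem (J.smul_mem _ hxJ) (J.smul_mem _ hyJ)
    have hy' : γ • x + δ • y ∈ J := J.add_mem (J.smul_mem _ hxJ) (J.smul_mem _ hyJ)
    have hid : (u + α • x + β • y) * (v + γ • x + δ • y) - (v + γ • x + δ • y) * (u + α • x + β • y) =
        (α * δ - β * γ) • t + ((u * v - v * u) + (u * (γ • x + δ • y) - (γ • x + δ • y) * u) +
          ((α • x + β • y) * v - v * (α • x + β • y))) := by
      simp only [ht, add_mul, mul_add, sub_mul, mul_sub, smul_mul_assoc, mul_smul_comm, smul_sub, smul_add,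
        smul_smul]
      module
    simp only [SetLike.mem_coe]
    rw [hid]
    refine Submodule.add_mem _ (Submodule.mem_sup_left (Submodule.smul_mem _ _
      (Submodule.mem_span_singleton_self t))) (Submodule.mem_sup_right ?_)
    refine Submodule.add_mem _ (Submodule.add_mem _ (Submodule.sub_mem _ ?_ ?_)
      (Submodule.sub_mem _ ?_ ?_)) (Submodule.sub_mem _ ?_ ?_)
    · exact hmem3r u hu v (h21 hv)
    · exact hmem3l v (h21 hv) u hu
    · exact hmem3r u hu _ hy'
    · exact hmem3l _ hy' u hu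
    · exact hmem3l _ hx' v hv
    · exact hmem3r v hv _ hx'
  have hJ2 : J ^ 2 ≤ Submodule.span k {t} ⊔ J ^ 3 := by
    rw [hCw]
    exact sup_le hComt (le_sup_of_le_right ((Submodule.span_singleton_le_iff_mem _ _).mpr hw3))
  have hJ2ne : J ^ 2 ≠ ⊥ := fun h => h3 (le_bot_iff.mp (h ▸ h32))
  have hne34 : J ^ 3 ≠ J ^ 4 := pow_ne_of_ne_bot hj (m := 2) h3
  have hne23 : J ^ 2 ≠ J ^ 3 := pow_ne_of_ne_bot hj (m := 1) hJ2ne
  have h43 : J ^ 4 ≤ J ^ 3 := pow_anti hj 2
  have ht3 : t ∉ J ^ 3 := fun h => hne23 (le_antisymm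
    (hJ2.trans (sup_le ((Submodule.span_singleton_le_iff_mem _ _).mpr h) le_rfl)) h32)
  have ht2 : t ∈ J ^ 2 := hU2 x hxJ y hyJ
  obtain ⟨ν₀, hν₀t, hν₀⟩ := Submodule.exists_dual_map_eq_bot_of_notMem ht3 inferInstance
  let ν : Module.Dual k B := (ν₀ t)⁻¹ • ν₀
  have hνt : ν t = 1 := by
    simp only [ν, LinearMap.smul_apply, smul_eq_mul]
    exact inv_mul_cancel₀ hν₀t
  have hν3 : ∀ z ∈ J ^ 3, ν z = 0 := by
    intro z hz
    have h1 : ν₀ z ∈ (J ^ 3).map ν₀ := ⟨z, hz, rfl⟩
    rw [hν₀, Submodule.mem_bot] at h1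
    simp only [ν, LinearMap.smul_apply, smul_eq_mul, h1, mul_zero]
  have hkey2 : ∀ u ∈ J ^ 2, u - ν u • t ∈ J ^ 3 := by
    intro u hu
    obtain ⟨v, hv, z, hz, rfl⟩ := Submodule.mem_sup.mp (hJ2 hu)
    obtain ⟨ρ, rfl⟩ := Submodule.mem_span_singleton.mp hv
    have h1 : ν (ρ • t + z) = ρ := by
      rw [map_add, map_smul, hνt, hν3 z hz, smul_eq_mul, mul_one, add_zero]
    rw [h1, add_sub_right_comm, sub_self, zero_add]
    exact hz
  have hmul2 : ∀ a ∈ J, ∀ b ∈ J, a * b ∈ J ^ 2 := by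
    intro a ha b hb
    rw [pow_two]
    exact Submodule.mul_mem_mul ha hb
  have hkey : ∀ a ∈ J, ∀ b ∈ J, a * b - ν (a * b) • t ∈ J ^ 3 := fun a ha b hb =>
    hkey2 _ (hmul2 a ha b hb)
  have hstar : ∀ a ∈ J, ∀ b ∈ J, ∀ c ∈ J,
      ν (a * b) • (t * c) - ν (b * c) • (a * t) ∈ J ^ 4 := by
    intro a ha b hb c hc
    have h1 : (a * b - ν (a * b) • t) * c ∈ J ^ 4 := by
      rw [show 4 = 3 + 1 by rfl, pow_add, pow_one]
      exact Submodule.mul_mem_mul (hkey a ha b hb) hc
    have h2 : a * (b * c - ν (b * c) • t) ∈ J ^ 4 := by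
      rw [show 4 = 1 + 3 by rfl, pow_add, pow_one]
      exact Submodule.mul_mem_mul ha (hkey b hb c hc)
    have h3' := Submodule.sub_mem _ h2 h1
    have h4 : a * (b * c - ν (b * c) • t) - (a * b - ν (a * b) • t) * c =
        ν (a * b) • (t * c) - ν (b * c) • (a * t) := by
      simp only [mul_sub, sub_mul, mul_smul_comm, smul_mul_assoc, mul_assoc]
      abel
    rwa [h4] at h3'
  -- the element `a₀`
  obtain ⟨a₀, ha₀, he₀⟩ : ∃ a ∈ J, a * t ∉ J ^ 4 := by
    by_contra hcon
    push Not at hcon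
    apply hne34
    refine le_antisymm ?_ h43
    rw [show 3 = 1 + 2 by rfl, pow_add, pow_one]
    refine Submodule.mul_le.mpr fun a ha u hu => ?_
    obtain ⟨v, hv, z, hz, rfl⟩ := Submodule.mem_sup.mp (hJ2 hu)
    obtain ⟨ρ, rfl⟩ := Submodule.mem_span_singleton.mp hv
    rw [mul_add, mul_smul_comm]
    refine Submodule.add_mem _ (Submodule.smul_mem _ _ (hcon a ha)) ?_
    rw [show 4 = 1 + 3 by rfl, pow_add, pow_one]
    exact Submodule.mul_mem_mul ha hz
  set e₀ : B := a₀ * t with he₀def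
  have hsc : ∀ α β : k, α • e₀ - β • e₀ ∈ J ^ 4 → α = β := by
    intro α β h
    by_contra hne
    rw [← sub_smul] at h
    exact he₀ ((Submodule.smul_mem_iff _ (sub_ne_zero.mpr hne)).mp h)
  have hsc0 : ∀ α : k, α • e₀ ∈ J ^ 4 → α = 0 := by
    intro α h
    by_contra hne
    exact he₀ ((Submodule.smul_mem_iff _ hne).mp h)
  have hxy : ν (x * y) - ν (y * x) = 1 := by
    rw [← map_sub]
    exact hνt
  obtain ⟨b₁, hb₁, c₁, hc₁, hbc⟩ : ∃ b ∈ J, ∃ c ∈ J, ν (b * c) ≠ 0 := by
    by_contra hcon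
    push Not at hcon
    rw [hcon x hxJ y hyJ, hcon y hyJ x hxJ, sub_zero] at hxy
    exact zero_ne_one hxy
  have hf₀ : ν (a₀ * b₁) ≠ 0 := by
    intro h0
    have h1 := hstar a₀ ha₀ b₁ hb₁ c₁ hc₁
    rw [h0, zero_smul, zero_sub, Submodule.neg_mem_iff] at h1
    exact hbc (hsc0 _ h1)
  set f₀ := ν (a₀ * b₁) with hf₀def
  let r : B → k := fun c => f₀⁻¹ * ν (b₁ * c)
  have hr : ∀ c ∈ J, t * c - r c • e₀ ∈ J ^ 4 := by
    intro c hc
    have h1 := (J ^ 4).smul_mem f₀⁻¹ (hstar a₀ ha₀ b₁ hb₁ c hc)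
    rw [smul_sub, smul_smul, inv_mul_cancel₀ hf₀, one_smul, smul_smul] at h1
    exact h1
  have hmu : ∀ b ∈ J, ∀ c ∈ J, ν (b * c) = ν (a₀ * b) * r c := by
    intro b hb c hc
    have h1 := hstar a₀ ha₀ b hb c hc
    have h2 := (J ^ 4).smul_mem (ν (a₀ * b)) (hr c hc)
    have h3' := Submodule.sub_mem _ h2 h1
    have h4 : ν (a₀ * b) • (t * c - r c • e₀) - (ν (a₀ * b) • (t * c) - ν (b * c) • e₀) =
        ν (b * c) • e₀ - (ν (a₀ * b) * r c) • e₀ := by
      rw [smul_sub, smul_smul]
      abel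
    rw [h4] at h3'
    exact hsc _ _ h3'
  have h1 := hmu x hxJ y hyJ
  have h2 := hmu y hyJ x hxJ
  have h3' := hmu a₀ ha₀ x hxJ
  have h4 := hmu a₀ ha₀ y hyJ
  rw [h1, h2, h3', h4] at hxy
  have h5 : ν (a₀ * a₀) * r x * r y - ν (a₀ * a₀) * r y * r x = 0 := by ring
  rw [h5] at hxy
  exact zero_ne_one hxy

end Form

end Cfsg.Agent.Lib.Star.LocalSym
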