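import Cfsg.Agent.Lib.Star.Bridge
import Cfsg.Agent.Lib.StarO.Trace

/-!
# Puig's trace vanishing in the form used on the residue field level

A bridge between `Lib.StarO.Trace.lin_eq_zero_of_BE'` and `Fx`, `br`, `red` of `Lib.Star`.
-/

set_option autoImplicit false
set_option linter.unusedSectionVars false

namespace Cfsg.Agent.Lib.Star

open MonoidAlgebra Cfsg.Agent.Lib.Blocks.Local Cfsg.Agent.Lib.Blocks.Central
open Cfsg.Agent.Lib.Blocks.Brauer Cfsg.Agent.Lib.BlockAlg

universe u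

variable {G : Type u} [Group G] [Fintype G] {M : Ideal AlgInt} {p : ℕ} [hMp : M.IsPrime]

/-- **Lemma V**: an idempotent fixed by a `p`-element `r` with vanishing Brauer image at `⟨r⟩`
has `χ(r x) = 0` for every class function `χ`. -/
theorem lemmaV (hM : IsPModular p M) {r : G} (hr : IsPGroup p (Subgroup.zpowers r)) {x : GA G}
    (hx : Rc M x) (hxF : x ∈ Fx ℂ (Subgroup.zpowers r)) (hxx : x * x = x)
    (hbr : br (Subgroup.zpowers r) (red M x) = 0) {χ : G → ℂ} (hcl : ∀ a b, χ (b * a * b⁻¹) = χ a) :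
    lin χ (MonoidAlgebra.single r 1 * x) = 0 := by
  have hp := hM.1
  have hcf : IsClassFunction G χ := fun a b => hcl a b
  have hord : ∃ k : ℕ, orderOf r = p ^ k := by
    haveI : Fact p.Prime := ⟨hp⟩
    obtain ⟨k, hk⟩ := (IsPGroup.iff_card.mp hr)
    exact ⟨k, by rw [← Nat.card_zpowers, hk]⟩
  have hinv : QInv (Subgroup.zpowers r) x := by
    intro q hq g
    have h1 := coeff_cj q x (q * g * q⁻¹)
    rw [hxF q hq] at h1
    rw [h1]
    congr 1
    group
  have hBE : Cfsg.Agent.Lib.StarO.Trace.BE M (Subgroup.zpowers r) x 0 := by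
    intro c hc
    have h1 := br_eq_zero_iff.mp hbr c hc
    rw [coeff_red] at h1
    rw [sub_zero]
    exact (Cfsg.Agent.Lib.Blk89.BlockPow.r_eq_zero_iff (hx c)).mp h1
  rw [lin_mul_comm hcf]
  exact Cfsg.Agent.Lib.StarO.Trace.lin_eq_zero_of_BE' hM hord hxx hx hinv hBE hcf

end Cfsg.Agent.Lib.Star
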