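import Mathlib
import Cfsg.Agent.Lib.BP.Nil4
import Cfsg.Agent.Lib.Contrib.NonVanish
import Cfsg.Agent.Lib.Star.Gen
import Cfsg.Agent.Lib.BlockH.InducedPairs

/-!
# The trace of a twist on the characters of a block (abelian defect)
-/

set_option linter.unusedSectionVars false
set_option autoImplicit false
set_option linter.style.haveILetI false

namespace Cfsg.Agent.Lib.Star.Wat1

open Cfsg MonoidAlgebra
open Cfsg.Agent.Lib.Blocks.Local Cfsg.Agent.Lib.Blocks.Central Cfsg.Agent.Lib.Blocks.Brauer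
open Cfsg.Agent.Lib.BlockH.Transport Cfsg.Agent.Lib.BlockH.Subpair Cfsg.Agent.Lib.BlockH.SubpairLE
open Cfsg.Agent.Lib.BlockH.ConjPair Cfsg.Agent.Lib.BlockH.MaxPair
open Cfsg.Agent.Lib.BP.StarDefs Cfsg.Agent.Lib.BP.Star1
open Cfsg.Agent.Lib.BP.Star2 Cfsg.Agent.Lib.BP.Star3 Cfsg.Agent.Lib.BP.Rob1 Cfsg.Agent.Lib.BP.Rob2
open Cfsg.Agent.Lib.BP.Nil1 Cfsg.Agent.Lib.BP.Nil2
open Cfsg.Agent.Lib.Char.Basic Cfsg.Agent.Lib.Char.Complete Cfsg.Agent.Lib.Char.Ortho
open Cfsg.Agent.Lib.Contrib.Proj Cfsg.Agent.Lib.Contrib.Sec Cfsg.Agent.Lib.Contrib.NonVanish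
open scoped ComplexConjugate

universe u

variable {G : Type u} [Group G] [Fintype G] {p : ℕ} {M : Ideal AlgInt}

attribute [local instance] fK fIrr fBl

variable {P : Subgroup G} {e : Set (IrrCharacter (Subgroup.centralizer (P : Set G)))} {B : Set (IrrCharacter G)}
variable [Fact p.Prime]

/-- The trace of the section projection. -/
theorem sum_inner_section [Fintype (IrrCharacter G)] (hM : IsPModular p M) {x : G}
    (hx : ∃ k : ℕ, orderOf x = p ^ k) (hB : IsPBlock M B)
    {C : Subgroup G} (hC : C = Subgroup.centralizer ({x} : Set G)) {b : Set (IrrCharacter C)}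
    (hb : IsInducedBlock M C b B) [DecidablePred (· ∈ B)] :
    ∑ χ : IrrCharacter G, (if χ ∈ B then
      classInner (PP p b (fun c : C => (χ : G → ℂ) (x * c))) (PP p b (fun c : C => (χ : G → ℂ) (x * c))) else 0) =
      (blockRank p b : ℂ) := by
  classical
  subst hC
  haveI := isPrime_of_pModular hM
  letI : Fintype B := Fintype.ofFinite _
  have h1 := sum_inner_self (M := M) (p := p) hM hb.1
    (f := fun i : B => PP p b (vt x (i : IrrCharacter G))) (star_section hM hx hB hb)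
  rw [← h1, sum_subtype_eq (B := B) (fun ζ => classInner (PP p b (vt x ζ)) (PP p b (vt x ζ)))]
  rfl

/-- Non-vanishing of a major section. -/
theorem exists_blockPart_ne [Fintype (IrrCharacter G)] (hM : IsPModular p M) {x : G} {k : ℕ}
    (hk : orderOf x = p ^ k) (hB : IsPBlock M B)
    {C : Subgroup G} (hC : C = Subgroup.centralizer ({x} : Set G)) {b : Set (IrrCharacter C)}
    (hb : IsInducedBlock M C b B) (hq : blockDefect p b = blockDefect p B) {χ : IrrCharacter G} (hχ : χ ∈ B) :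
    ∃ y : C, ¬ p ∣ orderOf y ∧ blockPart b (fun c : C => (χ : G → ℂ) (x * c)) y ≠ 0 := by
  classical
  subst hC
  haveI := isPrime_of_pModular hM
  letI : Fintype B := Fintype.ofFinite _
  have h := PP_ne_zero hM hk hB hb hq hχ
  by_contra hcon
  push Not at hcon
  apply h
  funext y
  rw [PP, Cfsg.Agent.Lib.BlockH.Regular.pRegularPart_apply]
  split_ifs with hy
  · exact hcon y hy
  · rfl

/-- `NN` as an inner product in the centralizer. -/
theorem NN_eq_inner (χ : G → ℂ) (hχ : IsClassFunction G χ) (r : G) (c : Set (IrrCharacter (cZ r))) :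
    NN p χ χ r c = (Nat.card (cZ r) : ℂ) *
      classInner (PP p c (fun k : cZ r => χ (r * k))) (PP p c (fun k : cZ r => χ (r * k))) := by
  classical
  have hK : (Nat.card (cZ r) : ℂ) ≠ 0 := Nat.cast_ne_zero.mpr Nat.card_pos.ne'
  rw [classInner_def, ← mul_assoc, mul_inv_cancel₀ hK, one_mul, NN]
  rw [Cfsg.Agent.Lib.Blocks.Induced.sum_eq_sum_subgroup (cZ r) _ (fun g hg => by rw [if_neg (fun h => hg h.1)])]
  refine Fintype.sum_congr _ _ fun k => ?_
  have h1 : orderOf (k : G) = orderOf k := Subgroup.orderOf_coe k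
  by_cases hk : ¬ p ∣ orderOf k
  · have hk' : IsPRegular p k := hk
    rw [if_pos ⟨k.2, by rwa [h1]⟩, PP, Cfsg.Agent.Lib.BlockH.Regular.pRegularPart_apply, if_pos hk',
      Fs_eq_blockPart hχ]
  · have hk' : ¬ IsPRegular p k := hk
    rw [if_neg (fun h => hk (by rw [← h1]; exact h.2)), PP, Cfsg.Agent.Lib.BlockH.Regular.pRegularPart_apply,
      if_neg hk']
    simp

/-- **The trace formula.** -/
theorem sum_classInner_star [Fintype (IrrCharacter G)] [DecidablePred (· ∈ B)] (hM : IsPModular p M)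
    (hmax : IsMaximalBrauerPair p M B P e) {lam : P → ℂ} (hlam : IsStableLam p M e lam) :
    ∑ χ : IrrCharacter G, (if χ ∈ B then classInner (starFun p M e lam (χ : G → ℂ)) (χ : G → ℂ) else 0) =
      ∑ w : P, lam w * ((blockRank p (bb p M e (w : G)) : ℂ) *
        ((Nat.card (cZ (w : G)) : ℂ) / (nU p M e (w : G) (bb p M e (w : G)) : ℂ))) := by
  classical
  have hP0 : (Nat.card P : ℂ) ≠ 0 := Nat.cast_ne_zero.mpr Nat.card_pos.ne'
  have h1 : ∀ χ : IrrCharacter G, χ ∈ B → classInner (starFun p M e lam (χ : G → ℂ)) (χ : G → ℂ) =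
      ∑ w : P, lam w * (NN p (χ : G → ℂ) (χ : G → ℂ) (w : G) (bb p M e (w : G)) /
        (nU p M e (w : G) (bb p M e (w : G)) : ℂ)) := by
    intro χ hχ
    have h2 := classInner_star hM hmax hlam (isStableLam_const (p := p) (M := M) (e := e) (1 : ℂ)) (class_irr χ)
    rw [starFun_one_irr hM hmax hχ] at h2
    rw [h2, Finset.mul_sum]
    refine Finset.sum_congr rfl fun w _ => ?_
    rw [psiF, map_one, mul_one]
    field_simp
  have h3 : ∀ χ : IrrCharacter G, (if χ ∈ B then classInner (starFun p M e lam (χ : G → ℂ)) (χ : G → ℂ) else 0) =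
      ∑ w : P, lam w * ((if χ ∈ B then NN p (χ : G → ℂ) (χ : G → ℂ) (w : G) (bb p M e (w : G)) else 0) /
        (nU p M e (w : G) (bb p M e (w : G)) : ℂ)) := by
    intro χ
    by_cases hχ : χ ∈ B
    · simp only [if_pos hχ]
      exact h1 χ hχ
    · simp [hχ]
  simp_rw [h3]
  rw [Finset.sum_comm]
  refine Finset.sum_congr rfl fun w _ => ?_
  rw [← Finset.mul_sum, ← Finset.sum_div]
  congr 1
  have hb := bb_spec hM hmax w.2
  have hind := induced_of_under hM hmax hb.2
  have hr := Cfsg.Agent.Lib.Blocks.Third.orderOf_of_mem_isPGroup hmax.1.1.1 w.2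
  have h4 := sum_inner_section hM hr hmax.1.2.1 (cZ_eq (w : G)) hind
  rw [mul_div_assoc', ← h4, Finset.sum_mul]
  congr 1
  refine Fintype.sum_congr _ _ fun χ => ?_
  by_cases hχ : χ ∈ B
  · simp only [if_pos hχ]
    rw [NN_eq_inner _ (class_irr χ), mul_comm]
  · simp [hχ]

/-! ### Control of fusion by the stabilizer -/

section Control

open Cfsg.Agent.Lib.BlockH.Saturation Cfsg.Agent.Lib.BlockH.Descent Cfsg.Agent.Lib.BlockH.Sylow
open Cfsg.Agent.Lib.BlockH.Pairs Cfsg.Agent.Lib.BlockT.SylowIn Cfsg.Agent.Lib.BlockH.FusionB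

/-- Conjugations between pairs below `(P, e)` are induced by the stabilizer. -/
theorem exists_stab_of_conj (hM : IsPModular p M) (hmax : IsMaximalBrauerPair p M B P e)
    (hab : ∀ x ∈ P, ∀ y ∈ P, x * y = y * x) {Q : Subgroup G}
    {f : Set (IrrCharacter (Subgroup.centralizer (Q : Set G)))} (hQP : Q ≤ P) (hle : SubpairLE p M Q f P e) {g : G}
    (hg : SubpairLE p M (Q.map (MulAut.conj g).toMonoidHom) (blockMap (conjEquivOf g rfl) f) P e) :
    ∃ c ∈ Subgroup.centralizer ((Q.map (MulAut.conj g).toMonoidHom : Subgroup G) : Set G),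
      c * g ∈ stabSub P e := by
  classical
  haveI := isPrime_of_pModular hM
  have hPe := hmax.1.1
  have hf : IsPBlock M f := isPBlock_of_subpairLE hPe.2 hle
  have hQp : IsPGroup p Q := hPe.1.to_le hQP
  have hPC : P ≤ Subgroup.centralizer (Q : Set G) := by
    intro a ha
    rw [Subgroup.mem_centralizer_iff]
    intro q hq
    exact hab q (hQP hq) a ha
  have hnor : IsNormalSubpair p M Q f P e :=
    isNormalSubpair_of_subpairLE hM ⟨hQp, hf⟩ hle (hPC.trans (centralizer_le_normalizer'' Q))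
  have hnorx := isNormalSubpair_conj (x := g) rfl rfl hnor
  set Q₂ := Q.map (MulAut.conj g).toMonoidHom with hQ₂
  have hQ₂P : Q₂ ≤ P := le_of_subpairLE hg
  have hPC₂ : P ≤ Subgroup.centralizer (Q₂ : Set G) := by
    intro a ha
    rw [Subgroup.mem_centralizer_iff]
    intro q hq
    exact hab q (hQ₂P hq) a ha
  have hNP : P ⊓ Subgroup.normalizer (Q₂ : Set G) = P := inf_eq_left.mpr (hPC₂.trans (centralizer_le_normalizer'' Q₂))
  have hfull : ∀ x : G, SubpairLE p M (Q₂.map (MulAut.conj x).toMonoidHom)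
      (blockMap (conjEquivOf x rfl) (blockMap (conjEquivOf g rfl) f)) P e →
      Nat.card (P ⊓ Subgroup.normalizer ((Q₂.map (MulAut.conj x).toMonoidHom : Subgroup G) : Set G) : Subgroup G)
        ≤ Nat.card (P ⊓ Subgroup.normalizer (Q₂ : Set G) : Subgroup G) := by
    intro x _
    rw [hNP]
    exact Subgroup.card_le_of_le inf_le_left
  have hUC : P.map (MulAut.conj g).toMonoidHom ≤ Subgroup.centralizer (Q₂ : Set G) := by
    rintro _ ⟨a, ha, rfl⟩
    rw [Subgroup.mem_centralizer_iff]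
    rintro _ ⟨q, hq, rfl⟩
    have h1 := Subgroup.mem_centralizer_iff.mp (hPC ha) q hq
    change g * q * g⁻¹ * (g * a * g⁻¹) = g * a * g⁻¹ * (g * q * g⁻¹)
    calc g * q * g⁻¹ * (g * a * g⁻¹) = g * (q * a) * g⁻¹ := by group
      _ = g * (a * q) * g⁻¹ := by rw [h1]
      _ = _ := by group
  obtain ⟨c, hc, hext⟩ := exists_centralizer_conj_subpairLE hM hmax hQ₂P (isPBlock_blockMap _ hf) hg hfull
    (hUC.trans (centralizer_le_prodL _ _ _)) hnorx
  have h1 := subpairLE_conj_mul g c hext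
  have hPcx : P.map (MulAut.conj (c * g)).toMonoidHom = P :=
    Subgroup.eq_of_le_of_card_ge (le_of_subpairLE h1) (card_conj_eq P (c * g)).ge
  have h2 := subpairLE_of_map_eq hPcx h1
  have h3 : blockMap (conjEquivOf (c * g) hPcx) e = e :=
    subpairLE_unique_aux hM hPe _ P le_rfl rfl _ e (isPBlock_blockMap _ hPe.2) h2 hPe.2
      Relation.ReflTransGen.refl
  exact ⟨c, hc, mem_normalizer_of_map_eq hPcx, stabilizesBlock_of_eq hPcx hPe.2 h3⟩

/-- An element of the stabilizer inducing a conjugation. -/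
theorem exists_stab_conj_eq (hM : IsPModular p M) (hmax : IsMaximalBrauerPair p M B P e)
    (hab : ∀ x ∈ P, ∀ y ∈ P, x * y = y * x) {r : G} {c : Set (IrrCharacter (cZ r))} {t s : G}
    (ht : IsUnder p M e r c t) (hs : IsUnder p M e r c s) :
    ∃ n ∈ stabSub P e, n * (t * r * t⁻¹) * n⁻¹ = s * r * s⁻¹ := by
  set Q := (Subgroup.zpowers r).map (MulAut.conj t).toMonoidHom with hQ
  set g := s * t⁻¹ with hg
  have hQP : Q ≤ P := le_of_subpairLE ht
  have hgt : g * t = s := by simp [hg]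
  have hQg : Q.map (MulAut.conj g).toMonoidHom = (Subgroup.zpowers r).map (MulAut.conj s).toMonoidHom := by
    rw [hQ, map_conj_mul, hgt]
  have h1 : SubpairLE p M (Q.map (MulAut.conj g).toMonoidHom)
      (blockMap (conjEquivOf g rfl) (blockMap (conjEquivOf t rfl) c)) P e := by
    rw [blockMap_conj_conj t g rfl rfl (by rw [hQg, hgt])]
    exact (isUnder_iff (p := p) (M := M) (e := e) (t := g * t) (c := c) (by rw [hQg, hgt])).mp
      (by rwa [hgt])
  obtain ⟨d, hd, hn⟩ := exists_stab_of_conj hM hmax hab hQP ht h1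
  refine ⟨d * g, hn, ?_⟩
  have hmem : g * (t * r * t⁻¹) * g⁻¹ ∈ Q.map (MulAut.conj g).toMonoidHom :=
    ⟨t * r * t⁻¹, ⟨r, Subgroup.mem_zpowers r, rfl⟩, rfl⟩
  have h2 := Subgroup.mem_centralizer_iff.mp hd _ hmem
  have h3 : g * (t * r * t⁻¹) * g⁻¹ = s * r * s⁻¹ := by
    simp only [hg]
    group
  rw [h3] at h2
  calc d * g * (t * r * t⁻¹) * (d * g)⁻¹ = d * (g * (t * r * t⁻¹) * g⁻¹) * d⁻¹ := by group
    _ = d * (s * r * s⁻¹) * d⁻¹ := by rw [h3]
    _ = (s * r * s⁻¹) * d * d⁻¹ := by rw [h2]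
    _ = _ := by group

/-- Functions invariant under the stabilizer are stable. -/
theorem isStableLam_of_stab (hM : IsPModular p M) (hmax : IsMaximalBrauerPair p M B P e)
    (hab : ∀ x ∈ P, ∀ y ∈ P, x * y = y * x) {lam : P → ℂ}
    (hlam : ∀ n ∈ stabSub P e, ∀ x y : P, n * (x : G) * n⁻¹ = y → lam x = lam y) : IsStableLam p M e lam := by
  intro r c t s ht hs
  obtain ⟨n, hn, h⟩ := exists_stab_conj_eq hM hmax hab ht hs
  exact hlam n hn _ _ h

/-- The elements carrying the pair at `w ∈ P` below `(P, e)`. -/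
theorem isUnder_bb_iff (hM : IsPModular p M) (hmax : IsMaximalBrauerPair p M B P e)
    (hab : ∀ x ∈ P, ∀ y ∈ P, x * y = y * x) {w t : G} (hw : w ∈ P) :
    IsUnder p M e w (bb p M e w) t ↔ ∃ n ∈ stabSub P e, ∃ c ∈ cZ w, t = n * c := by
  haveI := isPrime_of_pModular hM
  obtain ⟨h1, h2⟩ := bb_spec hM hmax hw
  constructor
  · intro ht
    obtain ⟨n, hn, h⟩ := exists_stab_conj_eq hM hmax hab h2 ht
    refine ⟨n, hn, n⁻¹ * t, ?_, by group⟩
    rw [mem_cZ]
    have h3 : n * w * n⁻¹ = t * w * t⁻¹ := by simpa using h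
    change n⁻¹ * t * w = w * (n⁻¹ * t)
    calc n⁻¹ * t * w = n⁻¹ * (t * w * t⁻¹) * t := by group
      _ = n⁻¹ * (n * w * n⁻¹) * t := by rw [h3]
      _ = _ := by group
  · rintro ⟨n, hn, c, hc, rfl⟩
    apply isUnder_stab_mul hM hmax.1.1.2 _ hn
    have hcQ : (Subgroup.zpowers w).map (MulAut.conj c).toMonoidHom = Subgroup.zpowers w := by
      have hcomm : c * w * c⁻¹ = w := by
        have := (mem_cZ.mp hc).eq
        rw [this]
        group
      rw [map_zpowers_conj, hcomm]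
    rw [isUnder_iff hcQ, blockMap_eq_of_stabilizes hcQ h1 (Cfsg.Agent.Lib.BlockH.Defects.stabilizesBlock_of_mem _ _ hc)]
    exact isUnder_one_iff.mp h2

open Classical in
/-- The order of a product set. -/
theorem card_mul_card_inf (A C : Subgroup G) :
    (Finset.univ.filter fun t : G => ∃ a ∈ A, ∃ c ∈ C, t = a * c).card * Nat.card (A ⊓ C : Subgroup G) =
      Nat.card A * Nat.card C := by
  classical
  set S := Finset.univ.filter fun t : G => ∃ a ∈ A, ∃ c ∈ C, t = a * c with hS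
  have h1 : ∀ t ∈ S, (Finset.univ.filter fun q : A × C => ((q.1 : G) * (q.2 : G)) = t).card =
      Nat.card (A ⊓ C : Subgroup G) := by
    intro t ht
    obtain ⟨a, ha, c, hc, rfl⟩ := (Finset.mem_filter.mp ht).2
    rw [Nat.card_eq_fintype_card, ← Finset.card_univ (α := (A ⊓ C : Subgroup G))]
    symm
    refine Finset.card_bij (fun d _ => ((⟨a * d, A.mul_mem ha d.2.1⟩ : A), (⟨(d : G)⁻¹ * c, C.mul_mem (C.inv_mem d.2.2) hc⟩ : C)))
      ?_ ?_ ?_
    · intro d _
      simp [mul_assoc]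
    · intro d _ d' _ h
      have := congrArg (fun q : A × C => (q.1 : G)) h
      simp only [mul_right_inj] at this
      exact Subtype.ext this
    · rintro ⟨⟨a', ha'⟩, ⟨c', hc'⟩⟩ hq
      have hq' : a' * c' = a * c := (Finset.mem_filter.mp hq).2
      have hd : a⁻¹ * a' ∈ A ⊓ C := by
        refine ⟨A.mul_mem (A.inv_mem ha) ha', ?_⟩
        have e1 : a⁻¹ * a' = c * c'⁻¹ := by
          calc a⁻¹ * a' = a⁻¹ * (a' * c') * c'⁻¹ := by group
            _ = a⁻¹ * (a * c) * c'⁻¹ := by rw [hq']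
            _ = _ := by group
        rw [e1]
        exact C.mul_mem hc (C.inv_mem hc')
      refine ⟨⟨_, hd⟩, Finset.mem_univ _, ?_⟩
      apply Prod.ext
      · apply Subtype.ext
        simp
      · apply Subtype.ext
        simp only [mul_inv_rev, inv_inv]
        calc a'⁻¹ * a * c = a'⁻¹ * (a * c) := by group
          _ = a'⁻¹ * (a' * c') := by rw [hq']
          _ = c' := by group
  have h2 : (Finset.univ : Finset (A × C)).card =
      ∑ t ∈ S, (Finset.univ.filter fun q : A × C => ((q.1 : G) * (q.2 : G)) = t).card := by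
    apply Finset.card_eq_sum_card_fiberwise
    intro q _
    exact Finset.mem_coe.mpr (Finset.mem_filter.mpr ⟨Finset.mem_univ _, q.1, q.1.2, q.2, q.2.2, rfl⟩)
  rw [Finset.sum_congr rfl h1, Finset.sum_const, smul_eq_mul, Finset.card_univ, Fintype.card_prod,
    ← Nat.card_eq_fintype_card, ← Nat.card_eq_fintype_card] at h2
  exact h2.symm

/-- The weights of the trace formula. -/
theorem card_div_nU (hM : IsPModular p M) (hmax : IsMaximalBrauerPair p M B P e)
    (hab : ∀ x ∈ P, ∀ y ∈ P, x * y = y * x) {w : G} (hw : w ∈ P) :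
    (Nat.card (cZ w) : ℂ) / (nU p M e w (bb p M e w) : ℂ) =
      (Nat.card (stabSub P e ⊓ cZ w : Subgroup G) : ℂ) / (Nat.card (stabSub P e) : ℂ) := by
  classical
  have h1 : nU p M e w (bb p M e w) =
      (Finset.univ.filter fun t : G => ∃ a ∈ stabSub P e, ∃ c ∈ cZ w, t = a * c).card := by
    rw [nU]
    congr 1
    ext t
    simp only [Finset.mem_filter, Finset.mem_univ, true_and]
    exact isUnder_bb_iff hM hmax hab hw
  have h2 := card_mul_card_inf (stabSub P e) (cZ w)
  rw [← h1] at h2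
  have h3 : ((nU p M e w (bb p M e w) : ℕ) : ℂ) * (Nat.card (stabSub P e ⊓ cZ w : Subgroup G) : ℂ) =
      (Nat.card (stabSub P e) : ℂ) * (Nat.card (cZ w) : ℂ) := by
    exact_mod_cast h2
  have h4 : (Nat.card (stabSub P e) : ℂ) ≠ 0 := Nat.cast_ne_zero.mpr Nat.card_pos.ne'
  have h5 : ((nU p M e w (bb p M e w) : ℕ) : ℂ) ≠ 0 := by
    intro h0
    rw [h0, zero_mul] at h3
    have h6 : (Nat.card (cZ w) : ℂ) ≠ 0 := Nat.cast_ne_zero.mpr Nat.card_pos.ne'
    exact (mul_ne_zero h4 h6) h3.symm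
  field_simp
  linear_combination -h3

end Control

end Cfsg.Agent.Lib.Star.Wat1
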