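import Mathlib
import Cfsg.Agent.Lib.Star.Wat1

/-!
# Fourier analysis on the focal quotient
-/

set_option linter.unusedSectionVars false
set_option autoImplicit false
set_option linter.style.haveILetI false

namespace Cfsg.Agent.Lib.Star.Wat2

universe u

section Fourier

/-- A function on a finite abelian group with vanishing nontrivial Fourier coefficients over `A / N` has
constant sums over the cosets of `N`. -/
theorem fourier_const {A : Type*} [Group A] [Finite A] (hcomm : ∀ a b : A, a * b = b * a) (N : Subgroup A)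
    (ρ : A → ℂ) [DecidablePred (· ∈ N)] [Fintype A]
    (h : ∀ lam : A →* ℂˣ, (∀ n ∈ N, lam n = 1) → (∃ a, lam a ≠ 1) → ∑ a, ((lam a : ℂˣ) : ℂ) * ρ a = 0) (x y : A) :
    ∑ a, (if x⁻¹ * a ∈ N then ρ a else 0) = ∑ a, (if y⁻¹ * a ∈ N then ρ a else 0) := by
  classical
  letI : CommGroup A := { (inferInstance : Group A) with mul_comm := hcomm }
  haveI hN : N.Normal := Subgroup.normal_of_isMulCommutative N
  letI : Fintype (Additive (A ⧸ N)) := Fintype.ofFinite _
  let π : A → Additive (A ⧸ N) := fun a => Additive.ofMul (a : A ⧸ N)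
  have hπadd : ∀ a b : A, π (a * b) = π a + π b := fun a b => rfl
  have hπone : π 1 = 0 := rfl
  have hπinv : ∀ a : A, π a⁻¹ = - π a := fun a => rfl
  have hπsurj : Function.Surjective π := by
    intro b
    induction b using Additive.rec with
    | ofMul q =>
      induction q using QuotientGroup.induction_on with
      | H a => exact ⟨a, rfl⟩
  have hπ0 : ∀ a : A, π a = 0 ↔ a ∈ N := by
    intro a
    change ((a : A ⧸ N) = 1) ↔ _
    exact QuotientGroup.eq_one_iff a
  let lamOf : AddChar (Additive (A ⧸ N)) ℂ → A →* ℂˣ := fun ψ =>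
    MonoidHom.toHomUnits
      { toFun := fun a => ψ (π a)
        map_one' := by rw [hπone, AddChar.map_zero_eq_one]
        map_mul' := fun a b => by rw [hπadd, AddChar.map_add_eq_mul] }
  have hlam : ∀ (ψ : AddChar (Additive (A ⧸ N)) ℂ) (a : A), ((lamOf ψ a : ℂˣ) : ℂ) = ψ (π a) := fun _ _ => rfl
  have hzero : ∀ ψ : AddChar (Additive (A ⧸ N)) ℂ, ψ ≠ 0 → ∑ a, ψ (π a) * ρ a = 0 := by
    intro ψ hψ
    have h1 := h (lamOf ψ) ?_ ?_
    · simpa only [hlam] using h1
    · intro n hn
      apply Units.ext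
      rw [hlam, (hπ0 n).mpr hn, AddChar.map_zero_eq_one, Units.val_one]
    · by_contra hcon
      push Not at hcon
      apply hψ
      ext b
      obtain ⟨a, rfl⟩ := hπsurj b
      have := congrArg Units.val (hcon a)
      rw [hlam, Units.val_one] at this
      rw [this]
      simp
  have key : ∀ x : A, (Fintype.card (Additive (A ⧸ N)) : ℂ) * ∑ a, (if x⁻¹ * a ∈ N then ρ a else 0) = ∑ a, ρ a := by
    intro x
    have h2 : ∑ ψ : AddChar (Additive (A ⧸ N)) ℂ, ψ (- π x) * ∑ a, ψ (π a) * ρ a = ∑ a, ρ a := by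
      rw [Finset.sum_eq_single (0 : AddChar (Additive (A ⧸ N)) ℂ)]
      · simp
      · intro ψ _ hψ
        rw [hzero ψ hψ, mul_zero]
      · intro h
        exact absurd (Finset.mem_univ _) h
    rw [← h2, Finset.mul_sum]
    simp_rw [Finset.mul_sum]
    rw [Finset.sum_comm]
    refine Finset.sum_congr rfl fun a _ => ?_
    have h3 : ∀ ψ : AddChar (Additive (A ⧸ N)) ℂ, ψ (- π x) * (ψ (π a) * ρ a) = ψ (π (x⁻¹ * a)) * ρ a := by
      intro ψ
      rw [← mul_assoc, ← AddChar.map_add_eq_mul, hπadd, hπinv]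
    simp_rw [h3]
    rw [← Finset.sum_mul, AddChar.sum_apply_eq_ite]
    by_cases hm : x⁻¹ * a ∈ N
    · rw [if_pos hm, if_pos ((hπ0 _).mpr hm)]
    · rw [if_neg hm, if_neg (fun h0 => hm ((hπ0 _).mp h0))]
      simp
  have hcard : (Fintype.card (Additive (A ⧸ N)) : ℂ) ≠ 0 := Nat.cast_ne_zero.mpr Fintype.card_ne_zero
  apply mul_left_cancel₀ hcard
  rw [key x, key y]

/-- The trivial intersection of a focal subgroup with the fixed points, for a `p'`-action. -/
theorem eq_one_of_fixed_of_mem {A E : Type*} [Group A] [Finite A] [Group E] (hcomm : ∀ a b : A, a * b = b * a)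
    {p : ℕ} [Fact p.Prime] (hA : IsPGroup p A) (φ : E →* MulAut A) (hφ : ¬ p ∣ Nat.card φ.range) {z : A}
    (hz : z ∈ Subgroup.closure {w : A | ∃ (x : A) (t : E), w = x⁻¹ * φ t x}) (hfix : ∀ t, φ t z = z) : z = 1 := by
  classical
  letI : CommGroup A := { (inferInstance : Group A) with mul_comm := hcomm }
  letI : Fintype (MulAut A) := Fintype.ofFinite _
  letI : Fintype φ.range := Fintype.ofFinite _
  let N : A →* A :=
    { toFun := fun a => ∏ α : φ.range, (α : MulAut A) a
      map_one' := by simp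
      map_mul' := fun a b => by
        simp only [map_mul]
        exact Finset.prod_mul_distrib }
  have hN : ∀ a : A, N a = ∏ α : φ.range, (α : MulAut A) a := fun a => rfl
  have hinv : ∀ (a : A) (t : E), N (φ t a) = N a := by
    intro a t
    rw [hN, hN]
    refine Fintype.prod_equiv (Equiv.mulRight (⟨φ t, t, rfl⟩ : φ.range)) _ _ fun α => ?_
    simp [MulAut.mul_apply]
  have hz1 : z ∈ N.ker := by
    refine (Subgroup.closure_le N.ker).mpr ?_ hz
    rintro _ ⟨x, t, rfl⟩
    rw [SetLike.mem_coe, MonoidHom.mem_ker, map_mul, map_inv, hinv]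
    exact inv_mul_cancel _
  have h2 : N z = z ^ Nat.card φ.range := by
    rw [hN, Nat.card_eq_fintype_card, ← Finset.card_univ, ← Finset.prod_const]
    refine Finset.prod_congr rfl fun α _ => ?_
    obtain ⟨α, t, rfl⟩ := α
    exact hfix t
  have h3 : z ^ Nat.card φ.range = 1 := by
    rw [← h2]
    exact hz1
  obtain ⟨k, hk⟩ := hA z
  have hp : p.Prime := Fact.out
  have hcop : Nat.Coprime (p ^ k) (Nat.card φ.range) :=
    Nat.Coprime.pow_left _ ((Nat.Prime.coprime_iff_not_dvd hp).mpr hφ)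
  have h4 : orderOf z ∣ Nat.gcd (p ^ k) (Nat.card φ.range) :=
    Nat.dvd_gcd (orderOf_dvd_of_pow_eq_one hk) (orderOf_dvd_of_pow_eq_one h3)
  rw [hcop, Nat.dvd_one, orderOf_eq_one_iff] at h4
  exact h4

end Fourier

end Cfsg.Agent.Lib.Star.Wat2
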