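import Mathlib
import Cfsg.Agent.Lib.Star.Wat2
import Cfsg.Agent.Lib.Blocks.ChainBlocks

/-!
# Transport lemmas for induced blocks, and the action of stable linear characters
-/

set_option linter.unusedSectionVars false
set_option autoImplicit false
set_option linter.style.haveILetI false

namespace Cfsg.Agent.Lib.Star.Wat3

open Cfsg MonoidAlgebra
open Cfsg.Agent.Lib.Blocks.Local Cfsg.Agent.Lib.Blocks.Central Cfsg.Agent.Lib.Blocks.Brauer
open Cfsg.Agent.Lib.BlockH.Transport Cfsg.Agent.Lib.BlockH.Subpair Cfsg.Agent.Lib.BlockH.SubpairLE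
open Cfsg.Agent.Lib.BlockH.ConjPair Cfsg.Agent.Lib.BlockH.MaxPair Cfsg.Agent.Lib.BlockH.Descent
open Cfsg.Agent.Lib.BlockH.InducedPairs
open Cfsg.Agent.Lib.BP.StarDefs Cfsg.Agent.Lib.BP.Star1
open Cfsg.Agent.Lib.BP.Star2 Cfsg.Agent.Lib.BP.Star3 Cfsg.Agent.Lib.BP.Rob1 Cfsg.Agent.Lib.BP.Rob2
open Cfsg.Agent.Lib.BP.Nil1 Cfsg.Agent.Lib.BP.Nil2
open Cfsg.Agent.Lib.Char.Basic Cfsg.Agent.Lib.Char.Complete Cfsg.Agent.Lib.Char.Ortho
open Cfsg.Agent.Lib.Star.Wat1
open scoped ComplexConjugate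

universe u

section Transport

variable {M : Ideal AlgInt}

/-- Transport of the induction of blocks along isomorphisms. -/
theorem isInducedBlockIn_transport {G₁ G₂ : Type u} [Group G₁] [Group G₂] {A₁ K₁ : Subgroup G₁} {A₂ K₂ : Subgroup G₂}
    [Finite G₁] [Finite G₂]
    (σ : A₁ ≃* A₂) (τ : K₁ ≃* K₂) (hK₁ : K₁ ≤ A₁)
    (hσ : ∀ k : K₁, ((σ ⟨k, hK₁ k.2⟩ : A₂) : G₂) = ((τ k : K₂) : G₂)) {e₁ : Set (IrrCharacter K₁)}
    {f₁ : Set (IrrCharacter A₁)} (h : IsInducedBlockIn M A₁ K₁ e₁ f₁) :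
    IsInducedBlockIn M A₂ K₂ (blockMap τ e₁) (blockMap σ f₁) := by
  refine ⟨isPBlock_blockMap _ h.1, isPBlock_blockMap _ h.2.1, ?_⟩
  rintro _ ⟨ξ, hξ, rfl⟩ _ ⟨χ, hχ, rfl⟩ a₂
  obtain ⟨a₁, rfl⟩ := σ.surjective a₂
  have h1 := h.2.2 ξ hξ χ hχ a₁
  have h2 : centralChar ((irrMap σ χ : IrrCharacter A₂) : A₂ → ℂ) (σ a₁) = centralChar (χ : A₁ → ℂ) a₁ :=
    Cfsg.Agent.Lib.BlockH.Defects.centralChar_irrMap σ χ a₁
  have h3 : inducedCentralCharIn A₂ K₂ ((irrMap τ ξ : IrrCharacter K₂) : K₂ → ℂ) ((σ a₁ : A₂) : G₂) =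
      inducedCentralCharIn A₁ K₁ (ξ : K₁ → ℂ) (a₁ : G₁) := by
    unfold inducedCentralCharIn
    symm
    refine finsum_mem_eq_of_bijOn (fun k => τ k) ⟨?_, ?_, ?_⟩ ?_
    · rintro k ⟨x, hx⟩
      refine ⟨σ x, ?_⟩
      have hk : (x * ⟨k, hK₁ k.2⟩ * x⁻¹ : A₁) = a₁ := Subtype.ext hx
      have h4 := congrArg (fun y : A₁ => ((σ y : A₂) : G₂)) hk
      simp only [map_mul, map_inv, Subgroup.coe_mul, Subgroup.coe_inv, hσ] at h4
      exact h4
    · exact fun a _ b _ hab => τ.injective hab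
    · rintro k ⟨x, hx⟩
      refine ⟨τ.symm k, ?_, by simp⟩
      refine ⟨σ.symm x, ?_⟩
      have hσ' : ((σ ⟨(τ.symm k : K₁), hK₁ (τ.symm k).2⟩ : A₂) : G₂) = (k : G₂) := by
        rw [hσ]
        simp
      have hk : (x * σ ⟨(τ.symm k : K₁), hK₁ (τ.symm k).2⟩ * x⁻¹ : A₂) = σ a₁ := by
        apply Subtype.ext
        rw [Subgroup.coe_mul, Subgroup.coe_mul, Subgroup.coe_inv, hσ']
        exact hx
      have h4 := congrArg (fun y : A₂ => ((σ.symm y : A₁) : G₁)) hk
      simp only [map_mul, map_inv, MulEquiv.symm_apply_apply, Subgroup.coe_mul, Subgroup.coe_inv] at h4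
      exact h4
    · intro k _
      simp only [irrMap_apply, MulEquiv.symm_apply_apply, map_one]
  rw [h2, h3]
  exact h1

/-- Uniqueness of the induced block. -/
theorem isInducedBlockIn_unique {G : Type u} [Group G] [Fintype G] [M.IsPrime] {A K : Subgroup G}
    {e : Set (IrrCharacter K)} {f₁ f₂ : Set (IrrCharacter A)} (h₁ : IsInducedBlockIn M A K e f₁)
    (h₂ : IsInducedBlockIn M A K e f₂) : f₁ = f₂ := by
  classical
  letI : Fintype A := Fintype.ofFinite _
  letI : Fintype K := Fintype.ofFinite _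
  haveI := Cfsg.Agent.Lib.Char.Ortho.finite_irrCharacter (G := A)
  letI : Fintype (IrrCharacter A) := Fintype.ofFinite _
  haveI := Cfsg.Agent.Lib.Char.Ortho.finite_irrCharacter (G := K)
  letI : Fintype (IrrCharacter K) := Fintype.ofFinite _
  obtain ⟨ξ, hξ⟩ := isPBlock_nonempty h₁.1
  obtain ⟨χ₁, hχ₁⟩ := isPBlock_nonempty h₁.2.1
  obtain ⟨χ₂, hχ₂⟩ := isPBlock_nonempty h₂.2.1
  rw [isPBlock_eq_blockOf h₁.2.1 hχ₁, isPBlock_eq_blockOf h₂.2.1 hχ₂]
  have hs : SameBlock M (χ₁ : A → ℂ) (χ₂ : A → ℂ) := by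
    intro a
    have h3 := memLocalIdeal_sub (h₂.2.2 ξ hξ χ₂ hχ₂ a) (h₁.2.2 ξ hξ χ₁ hχ₁ a)
    convert h3 using 1
    ring
  exact blockOf_eq_of_mem (sameBlock_symm hs)

/-- A block of the whole group. -/
theorem of_induced_top {G : Type u} [Group G] [Fintype G] [M.IsPrime] {p : ℕ} {K : Subgroup G} (hK : K = ⊤)
    {b : Set (IrrCharacter K)} {B : Set (IrrCharacter G)} (hb : IsInducedBlock M K b B) :
    blockRank p b = blockRank p B ∧ Nat.card b = Nat.card B := by
  classical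
  subst hK
  letI : Fintype (⊤ : Subgroup G) := Fintype.ofFinite _
  haveI := Cfsg.Agent.Lib.Char.Ortho.finite_irrCharacter (G := (⊤ : Subgroup G))
  letI : Fintype (IrrCharacter (⊤ : Subgroup G)) := Fintype.ofFinite _
  haveI := Cfsg.Agent.Lib.Char.Ortho.finite_irrCharacter (G := G)
  letI : Fintype (IrrCharacter G) := Fintype.ofFinite _
  let σ : (⊤ : Subgroup G) ≃* G := Subgroup.topEquiv
  have key : blockMap σ b = B := by
    obtain ⟨ξ, hξ⟩ := isPBlock_nonempty hb.1
    obtain ⟨χ, hχ⟩ := isPBlock_nonempty hb.2.1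
    have h1 : SameBlock M ((irrMap σ ξ : IrrCharacter G) : G → ℂ) (χ : G → ℂ) := by
      intro g
      have h2 := hb.2.2 ξ hξ χ hχ g
      have h3 : inducedCentralChar ⊤ (ξ : (⊤ : Subgroup G) → ℂ) g = centralChar ((irrMap σ ξ : IrrCharacter G) : G → ℂ) g := by
        rw [← omegaHom_classSum, omegaHom_apply, inducedCentralChar, finsum_mem_def, finsum_eq_sum_of_fintype,
          lin_apply, Finset.sum_div]
        refine Fintype.sum_equiv σ.toEquiv _ _ fun h => ?_
        have e1 : σ.toEquiv h = (h : G) := rfl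
        rw [e1, coeff_classSum, Set.indicator_apply]
        have e2 : ((irrMap σ ξ : IrrCharacter G) : G → ℂ) (h : G) = (ξ : (⊤ : Subgroup G) → ℂ) h := by
          rw [irrMap_apply]
          congr 1
        have e3 : ((irrMap σ ξ : IrrCharacter G) : G → ℂ) 1 = (ξ : (⊤ : Subgroup G) → ℂ) 1 := by
          rw [irrMap_apply]
          simp
        by_cases hc : IsConj g (h : G)
        · rw [if_pos hc, if_pos (show h ∈ {h : (⊤ : Subgroup G) | IsConj g (h : G)} from hc), one_mul, e2, e3]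
        · rw [if_neg hc, if_neg (show h ∉ {h : (⊤ : Subgroup G) | IsConj g (h : G)} from hc)]
          simp
      rw [← h3]
      exact h2
    rw [isPBlock_eq_blockOf hb.2.1 hχ, isPBlock_eq_blockOf (isPBlock_blockMap σ hb.1) (irrMap_mem_blockMap σ b hξ)]
    exact blockOf_eq_of_mem (sameBlock_symm h1)
  constructor
  · rw [← key, Cfsg.Agent.Lib.Blocks.ChainBlocks.blockRank_blockMap]
  · rw [← key]
    exact (Nat.card_image_of_injective (irrEquiv σ).injective b).symm

end Transport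

section Action

variable {G : Type u} [Group G] [Fintype G] {p : ℕ} {M : Ideal AlgInt}

attribute [local instance] fK fIrr fBl

variable {P : Subgroup G} {e : Set (IrrCharacter (Subgroup.centralizer (P : Set G)))} {B : Set (IrrCharacter G)}
variable [Fact p.Prime]

theorem P_le_cZ (hab : ∀ x ∈ P, ∀ y ∈ P, x * y = y * x) {w : G} (hw : w ∈ P) : P ≤ cZ w := by
  intro a ha
  rw [mem_cZ]
  exact hab a ha w hw

theorem C_le_cZ {w : G} (hw : w ∈ P) : Subgroup.centralizer (P : Set G) ≤ cZ w :=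
  Subgroup.centralizer_le ((Subgroup.zpowers_le).mpr hw)

theorem map_P (hab : ∀ x ∈ P, ∀ y ∈ P, x * y = y * x) {w : G} (hw : w ∈ P) :
    (P.subgroupOf (cZ w)).map (cZ w).subtype = P :=
  Subgroup.map_subgroupOf_eq_of_le (P_le_cZ hab hw)

/-- The block of the centralizer of `P` inside `C_G(w)`. -/
noncomputable def eDown (e : Set (IrrCharacter (Subgroup.centralizer (P : Set G))))
    (hab : ∀ x ∈ P, ∀ y ∈ P, x * y = y * x) {w : G} (hw : w ∈ P) :
    Set (IrrCharacter (Subgroup.centralizer ((P.subgroupOf (cZ w) : Subgroup (cZ w)) : Set (cZ w)))) :=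
  blockMap (descEquiv (map_P hab hw) (C_le_cZ hw)).symm e

theorem isNormalSubpair_of_under (hM : IsPModular p M) (hmax : IsMaximalBrauerPair p M B P e)
    (hab : ∀ x ∈ P, ∀ y ∈ P, x * y = y * x) {w : G} (hw : w ∈ P) {f : Set (IrrCharacter (cZ w))}
    (hu : IsUnder p M e w f 1) : IsNormalSubpair p M (Subgroup.zpowers w) f P e := by
  haveI := isPrime_of_pModular hM
  have hle := isUnder_one_iff.mp hu
  have hQP : Subgroup.zpowers w ≤ P := (Subgroup.zpowers_le).mpr hw
  have hf : IsPBlock M f := Cfsg.Agent.Lib.BlockH.FusionB.isPBlock_of_subpairLE hmax.1.1.2 hle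
  exact isNormalSubpair_of_subpairLE hM ⟨hmax.1.1.1.to_le hQP, hf⟩ hle
    ((P_le_cZ hab hw).trans (Cfsg.Agent.Lib.BlockH.Sylow.centralizer_le_normalizer'' _))

/-- The maximal pair in `C_G(w)`. -/
theorem isMaximal_down (hM : IsPModular p M) (hmax : IsMaximalBrauerPair p M B P e)
    (hab : ∀ x ∈ P, ∀ y ∈ P, x * y = y * x) {w : G} (hw : w ∈ P) {f : Set (IrrCharacter (cZ w))}
    (hu : IsUnder p M e w f 1) : IsMaximalBrauerPair p M f (P.subgroupOf (cZ w)) (eDown e hab hw) :=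
  isMaximal_desc hM hmax hab ((Subgroup.zpowers_le).mpr hw) (isNormalSubpair_of_under hM hmax hab hw hu)
    (P_le_cZ hab hw) (map_P hab hw) (C_le_cZ hw)

/-- Pairs below `(P, e)` are major. -/
theorem blockDefect_eq (hM : IsPModular p M) (hmax : IsMaximalBrauerPair p M B P e)
    (hab : ∀ x ∈ P, ∀ y ∈ P, x * y = y * x) {w : G} (hw : w ∈ P) {f : Set (IrrCharacter (cZ w))}
    (hu : IsUnder p M e w f 1) : blockDefect p f = blockDefect p B := by
  have hp : p.Prime := Fact.out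
  have hm := isMaximal_down hM hmax hab hw hu
  have h1 := Cfsg.Agent.Lib.Blocks.Inducing.card_eq_pow_blockDefect hM hm.1.2.1 (isDefectGroup_of_isMaximal hM hm)
  have h2 := Cfsg.Agent.Lib.Blocks.Inducing.card_eq_pow_blockDefect hM hmax.1.2.1 (isDefectGroup_of_isMaximal hM hmax)
  have h3 : Nat.card (P.subgroupOf (cZ w)) = Nat.card P :=
    Nat.card_congr (Subgroup.subgroupOfEquivOfLe (P_le_cZ hab hw)).toEquiv
  rw [h3, h2] at h1
  exact (Nat.pow_right_injective hp.two_le h1).symm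

/-- The non-vanishing of the section at any element of `P`. -/
theorem exists_Fs_ne (hM : IsPModular p M) (hmax : IsMaximalBrauerPair p M B P e)
    (hab : ∀ x ∈ P, ∀ y ∈ P, x * y = y * x) {w : G} (hw : w ∈ P) {f : Set (IrrCharacter (cZ w))}
    (hu : IsUnder p M e w f 1) {χ : IrrCharacter G} (hχ : χ ∈ B) :
    ∃ y : G, y ∈ cZ w ∧ ¬ p ∣ orderOf y ∧ Fs (χ : G → ℂ) w f y ≠ 0 := by
  classical
  haveI := isPrime_of_pModular hM
  haveI := Cfsg.Agent.Lib.Char.Ortho.finite_irrCharacter (G := G)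
  letI : Fintype (IrrCharacter G) := Fintype.ofFinite _
  obtain ⟨k, hk⟩ := Cfsg.Agent.Lib.Blocks.Third.orderOf_of_mem_isPGroup hmax.1.1.1 hw
  obtain ⟨y, hy, hne⟩ := exists_blockPart_ne hM hk hmax.1.2.1 (cZ_eq w) (induced_of_under hM hmax hu)
    (blockDefect_eq hM hmax hab hw hu) hχ
  refine ⟨y, y.2, by rwa [Subgroup.orderOf_coe], ?_⟩
  rw [Fs_eq_blockPart (class_irr χ) w f y]
  exact hne

/-- The weight function on the defect group. -/
noncomputable def rho (p : ℕ) [Fact p.Prime] (M : Ideal AlgInt)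
    (e : Set (IrrCharacter (Subgroup.centralizer (P : Set G)))) (w : G) : ℂ :=
  (blockRank p (bb p M e w) : ℂ) *
    ((Nat.card (stabSub P e ⊓ cZ w : Subgroup G) : ℂ) / (Nat.card (stabSub P e) : ℂ))

/-- **Vanishing of the Fourier coefficients of the weights.** -/
theorem sum_rho_eq_zero (hM : IsPModular p M) (hmax : IsMaximalBrauerPair p M B P e)
    (hab : ∀ x ∈ P, ∀ y ∈ P, x * y = y * x) (lam : P →* ℂˣ)
    (hT : ∀ n ∈ stabSub P e, ∀ x y : P, n * (x : G) * n⁻¹ = y → lam x = lam y) (hne : ∃ a, lam a ≠ 1) :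
    ∑ w : P, ((lam w : ℂˣ) : ℂ) * rho p M e (w : G) = 0 := by
  classical
  haveI := isPrime_of_pModular hM
  haveI := Cfsg.Agent.Lib.Char.Ortho.finite_irrCharacter (G := G)
  letI : Fintype (IrrCharacter G) := Fintype.ofFinite _
  set l : P → ℂ := fun x => ((lam x : ℂˣ) : ℂ) with hl
  have hst : IsStableLam p M e l := isStableLam_of_stab hM hmax hab (fun n hn x y h => by
    simp only [hl]
    rw [hT n hn x y h])
  have hgen : IsGeneralizedCharacter P l :=
    ⟨l, 0, Cfsg.Agent.Lib.CharDeep.LinearChar.isCharacter_of_hom lam, isCharacter_zero, by simp⟩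
  have hu : ∀ x, l x * conj (l x) = 1 := fun x => hom_unimodular lam x
  have h1 : l 1 = 1 := by simp [hl]
  have htr := sum_classInner_star hM hmax hst
  have hzero : ∀ χ : IrrCharacter G, (if χ ∈ B then classInner (starFun p M e l (χ : G → ℂ)) (χ : G → ℂ) else 0) = 0 := by
    intro χ
    by_cases hχ : χ ∈ B
    · rw [if_pos hχ]
      have hint : StarInt p M B P e := fun lam hgen hst χ hχ => Cfsg.Agent.Lib.Star.star_isGenChar hM hmax hgen hst hχ
      have hirr := star_isIrr hM hmax hint hgen hst hu h1 hχ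
      apply classInner_eq_zero_of_isIrr_of_ne hirr χ.2
      intro hfix
      obtain ⟨a, ha⟩ := hne
      obtain ⟨hb1, hb2⟩ := bb_spec hM hmax a.2
      obtain ⟨y, hy, hyp, hy0⟩ := exists_Fs_ne hM hmax hab a.2 hb2 hχ
      have h2 := lam_eq_one_of_fixed hM hmax hst hfix a.2 hb1 hb2 hy hyp hy0
      apply ha
      apply Units.ext
      exact h2
    · rw [if_neg hχ]
  rw [Finset.sum_eq_zero (fun χ _ => hzero χ)] at htr
  rw [htr]
  refine Finset.sum_congr rfl fun w _ => ?_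
  rw [rho, card_div_nU hM hmax hab w.2]

/-- The sum of the weights is the number of characters. -/
theorem sum_rho (hM : IsPModular p M) (hmax : IsMaximalBrauerPair p M B P e)
    (hab : ∀ x ∈ P, ∀ y ∈ P, x * y = y * x) :
    ∑ w : P, rho p M e (w : G) = (Nat.card B : ℂ) := by
  classical
  haveI := isPrime_of_pModular hM
  haveI := Cfsg.Agent.Lib.Char.Ortho.finite_irrCharacter (G := G)
  letI : Fintype (IrrCharacter G) := Fintype.ofFinite _
  have hst : IsStableLam p M e (fun _ : P => (1 : ℂ)) := isStableLam_const 1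
  have htr := sum_classInner_star hM hmax hst
  have h1 : ∀ χ : IrrCharacter G, (if χ ∈ B then classInner (starFun p M e (fun _ : P => (1 : ℂ)) (χ : G → ℂ)) (χ : G → ℂ) else 0) =
      if χ ∈ B then (1 : ℂ) else 0 := by
    intro χ
    by_cases hχ : χ ∈ B
    · rw [if_pos hχ, if_pos hχ, starFun_one_irr hM hmax hχ, classInner_self_of_isIrr χ.2]
    · rw [if_neg hχ, if_neg hχ]
  simp_rw [h1] at htr
  have h2 : (Nat.card B : ℂ) = ∑ χ : IrrCharacter G, if χ ∈ B then (1 : ℂ) else 0 := by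
    rw [Finset.sum_boole, Nat.card_eq_fintype_card]
    congr 1
    exact Fintype.card_subtype _
  rw [h2, htr]
  refine Finset.sum_congr rfl fun w _ => ?_
  rw [rho, card_div_nU hM hmax hab w.2, one_mul]

/-- The weight of a central element. -/
theorem rho_of_central (hM : IsPModular p M) (hmax : IsMaximalBrauerPair p M B P e)
    {w : G} (hw : w ∈ P) (hc : ∀ g : G, Commute g w) :
    rho p M e w = (blockRank p B : ℂ) := by
  haveI := isPrime_of_pModular hM
  have hK : cZ w = ⊤ := by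
    rw [eq_top_iff]
    intro g _
    exact mem_cZ.mpr (hc g)
  obtain ⟨-, h2⟩ := bb_spec hM hmax hw
  have h3 := (of_induced_top (p := p) hK (induced_of_under hM hmax h2)).1
  rw [rho, h3, hK]
  have h4 : stabSub P e ⊓ (⊤ : Subgroup G) = stabSub P e := inf_top_eq _
  rw [h4, div_self, mul_one]
  exact Nat.cast_ne_zero.mpr Nat.card_pos.ne'

end Action

end Cfsg.Agent.Lib.Star.Wat3
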